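/-
Cohen–Macaulay modules over Noetherian local rings: unmixedness, quotients by regular sequences,
and the dimension criterion for regularity of a sequence.
-/
import Groth.Prelude.Def_CAlg
import Groth.Agent.LocH.DepthPrimes
import Groth.Agent.LocH.DepthMisc
import Groth.Agent.QGorD.Basic
import Mathlib

universe u

open RingTheory.Sequence IsLocalRing Pointwise

namespace Groth.Agent.EGA41CM

variable {A : Type u} [CommRing A] [IsLocalRing A] [IsNoetherianRing A]

/-- An associated prime bounds the depth by the dimension of its quotient. -/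
theorem depth_le_dim_quotient (M : Type u) [AddCommGroup M] [Module A M] [Module.Finite A M]
    {p : Ideal A} (hp : p ∈ associatedPrimes A M) :
    ((LocCoh.depth A M : ℕ∞) : WithBot ℕ∞) ≤ ringKrullDim (A ⧸ p) := by
  have hpP : p.IsPrime := (IsAssociatedPrime.isPrime hp)
  have hpm : p ≤ maximalIdeal A := le_maximalIdeal hpP.ne_top
  haveI : IsLocalRing (A ⧸ p) :=
    IsLocalRing.of_surjective' (Ideal.Quotient.mk p) Ideal.Quotient.mk_surjective
  have hmap : (maximalIdeal A).map (Ideal.Quotient.mk p) = maximalIdeal (A ⧸ p) :=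
    IsLocalRing.eq_maximalIdeal (Ideal.IsMaximal.map_of_surjective_of_ker_le
      Ideal.Quotient.mk_surjective (by rwa [Ideal.mk_ker]))
  rw [← IsLocalRing.maximalIdeal_height_eq_ringKrullDim, ← hmap, WithBot.coe_le_coe]
  refine ENat.forall_natCast_le_iff_le.1 fun n hn => ?_
  have h1 := (LocH.le_idealDepth_iff_forall_prime (maximalIdeal A) M n).1 hn ⟨maximalIdeal A, inferInstance⟩ le_rfl
  refine h1.trans ?_
  cases hh : ((maximalIdeal A).map (Ideal.Quotient.mk p)).height with
  | top => exact le_top
  | coe k =>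
    have h2 := LocH.depth_localization_le M k p (maximalIdeal A) hpm hh.le
    rwa [LocH.depth_eq_zero_of_associated M hp, zero_add] at h2

theorem dim_quotient_le_supportDim (M : Type u) [AddCommGroup M] [Module A M] (p : PrimeSpectrum A)
    (hp : p ∈ Module.support A M) : ringKrullDim (A ⧸ p.asIdeal) ≤ Module.supportDim A M := by
  rw [ringKrullDim_quotient]
  refine Order.krullDim_le_of_strictMono (fun q => ⟨q.1, Module.mem_support_mono ?_ hp⟩) fun _ _ h => h
  exact q.2

variable {M : Type u} [AddCommGroup M] [Module A M] [Module.Finite A M]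

theorem nontrivial_of_cm (hM : LocCoh.IsCohenMacaulayModule A M) : Nontrivial M :=
  (Module.supportDim_ne_bot_iff_nontrivial A M).mp (by rw [hM]; exact WithBot.coe_ne_bot)

theorem dim_quotient_eq (hM : LocCoh.IsCohenMacaulayModule A M) {p : Ideal A}
    (hp : p ∈ associatedPrimes A M) : ringKrullDim (A ⧸ p) = Module.supportDim A M := by
  refine le_antisymm ?_ ?_
  · exact dim_quotient_le_supportDim M ⟨p, IsAssociatedPrime.isPrime hp⟩
      (Module.mem_support_iff_of_finite.mpr
        (by simpa [Submodule.annihilator_top] using IsAssociatedPrime.annihilator_le hp))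
  · rw [hM]; exact depth_le_dim_quotient M hp

theorem supportDim_le_quotient_add (M : Type u) [AddCommGroup M] [Module A M] [Module.Finite A M]
    (xs : List A) (hxs : ∀ x ∈ xs, x ∈ maximalIdeal A) : Module.supportDim A M ≤
      Module.supportDim A (M ⧸ (Ideal.ofList xs • (⊤ : Submodule A M))) + xs.length := by
  induction xs generalizing M with
  | nil =>
    rw [Ideal.ofList_nil, Submodule.bot_smul,
      Module.supportDim_eq_of_equiv (Submodule.quotEquivOfEqBot ⊥ rfl)]
    simp
  | cons x xs ih =>
    rw [Module.supportDim_eq_of_equiv (Submodule.quotOfListConsSMulTopEquivQuotSMulTopInner M x xs)]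
    refine (Module.supportDim_le_supportDim_quotSMulTop_succ (hxs x (List.mem_cons_self ..))).trans ?_
    refine (add_le_add (ih (QuotSMulTop x M) fun y hy => hxs y (List.mem_cons_of_mem _ hy)) le_rfl).trans ?_
    rw [List.length_cons, Nat.cast_succ, add_assoc]

theorem nontrivial_quotient [Nontrivial M] {xs : List A} (hxs : ∀ x ∈ xs, x ∈ maximalIdeal A) :
    Nontrivial (M ⧸ (Ideal.ofList xs • (⊤ : Submodule A M))) := by
  rw [Submodule.Quotient.nontrivial_iff, ne_comm]
  exact Submodule.top_ne_ideal_smul_of_le_jacobson_annihilator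
    ((Ideal.span_le.mpr hxs).trans (IsLocalRing.maximalIdeal_le_jacobson _))

theorem supportDim_quotient_of_regular [Nontrivial M] {xs : List A}
    (hxs : ∀ x ∈ xs, x ∈ maximalIdeal A) (hr : IsWeaklyRegular M xs) :
    Module.supportDim A (M ⧸ (Ideal.ofList xs • (⊤ : Submodule A M))) + xs.length =
      Module.supportDim A M :=
  Module.supportDim_add_length_eq_supportDim_of_isRegular xs
    ((IsLocalRing.isRegular_iff_isWeaklyRegular_of_subset_maximalIdeal hxs).mpr hr)

/-- The quotient of a Cohen–Macaulay module by a regular sequence is Cohen–Macaulay. -/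
theorem cm_quotient (hM : LocCoh.IsCohenMacaulayModule A M) {xs : List A}
    (hxs : ∀ x ∈ xs, x ∈ maximalIdeal A) (hr : IsWeaklyRegular M xs) :
    LocCoh.IsCohenMacaulayModule A (M ⧸ (Ideal.ofList xs • (⊤ : Submodule A M))) := by
  haveI := nontrivial_of_cm hM
  haveI := nontrivial_quotient (M := M) hxs
  have hd := supportDim_quotient_of_regular hxs hr
  obtain ⟨e, he⟩ := QGorD.exists_nat_supportDim (R := A) (M ⧸ (Ideal.ofList xs • (⊤ : Submodule A M)))
  have h1 := InvFin.depth_le_supportDim _ he
  rw [LocCoh.IsCohenMacaulayModule, he]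
  refine congrArg WithBot.some (le_antisymm ?_ h1)
  rw [LocCoh.depth]
  rw [he, hM] at hd
  have hdep : ((xs.length + e : ℕ) : ℕ∞) ≤ LocCoh.idealDepth (maximalIdeal A) M := by
    have : ((xs.length + e : ℕ) : WithBot ℕ∞) = ((LocCoh.depth A M : ℕ∞) : WithBot ℕ∞) := by
      rw [← hd, Nat.cast_add, add_comm]
    exact (WithBot.coe_inj.mp this).le
  obtain ⟨rs, hlen, happ, hmem⟩ := LocH.exists_isWeaklyRegular_append (maximalIdeal A) e xs M hr hxs
    ((LocH.le_idealDepth_iff _ M _).1 hdep)
  rw [isWeaklyRegular_append_iff] at happ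
  rw [← hlen]
  exact (LocH.le_idealDepth_iff _ _ _).2
    (LocH.subsingleton_of_isWeaklyRegular _ rs _ happ.2 hmem)

theorem quotient_ofList_singleton (x : A) :
    (Ideal.ofList [x] • (⊤ : Submodule A M)) = x • (⊤ : Submodule A M) := by
  rw [Ideal.ofList_singleton, Submodule.ideal_span_singleton_smul]

theorem cm_quotSMulTop (hM : LocCoh.IsCohenMacaulayModule A M) {x : A}
    (hx : x ∈ maximalIdeal A) (hr : IsSMulRegular M x) :
    LocCoh.IsCohenMacaulayModule A (QuotSMulTop x M) := by
  have h := cm_quotient hM (xs := [x]) (by simpa using hx)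
    ((isWeaklyRegular_cons_iff M x []).2 ⟨hr, IsWeaklyRegular.nil _ _⟩)
  let e : (M ⧸ (Ideal.ofList [x] • (⊤ : Submodule A M))) ≃ₗ[A] QuotSMulTop x M :=
    Submodule.quotEquivOfEq _ _ (quotient_ofList_singleton x)
  rw [LocCoh.IsCohenMacaulayModule, LocCoh.depth] at h ⊢
  rwa [← Module.supportDim_eq_of_equiv e, ← LocH.idealDepth_congr e]

/-- In a Cohen–Macaulay module a sequence is regular iff it drops the dimension by its length. -/
theorem isWeaklyRegular_of_dim : ∀ (xs : List A) (M : Type u) [AddCommGroup M] [Module A M]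
    [Module.Finite A M], LocCoh.IsCohenMacaulayModule A M → (∀ x ∈ xs, x ∈ maximalIdeal A) →
    Module.supportDim A (M ⧸ (Ideal.ofList xs • (⊤ : Submodule A M))) + xs.length =
      Module.supportDim A M → IsWeaklyRegular M xs
  | [], M, _, _, _, _, _, _ => IsWeaklyRegular.nil _ _
  | x :: xs, M, _, _, _, hM, hxs, hd => by
    haveI := nontrivial_of_cm hM
    haveI := nontrivial_quotient (M := M) hxs
    have hx : x ∈ maximalIdeal A := hxs x (List.mem_cons_self ..)
    have hxs' : ∀ y ∈ xs, y ∈ maximalIdeal A := fun y hy => hxs y (List.mem_cons_of_mem _ hy)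
    obtain ⟨e, he⟩ := QGorD.exists_nat_supportDim (R := A) (M ⧸ (Ideal.ofList (x :: xs) • (⊤ : Submodule A M)))
    have hq := supportDim_le_quotient_add (QuotSMulTop x M) xs hxs'
    rw [← Module.supportDim_eq_of_equiv (Submodule.quotOfListConsSMulTopEquivQuotSMulTopInner M x xs),
      he] at hq
    rw [he, List.length_cons] at hd
    have hreg : IsSMulRegular M x := by
      by_contra hn
      obtain ⟨p, hp, hxp⟩ : ∃ p ∈ associatedPrimes A M, x ∈ p := by
        have h2 : x ∈ ⋃ p ∈ associatedPrimes A M, (p : Set A) := by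
          rw [biUnion_associatedPrimes_eq_compl_regular]
          exact hn
        simpa only [Set.mem_iUnion, exists_prop, SetLike.mem_coe] using h2
      have hsupp : (⟨p, IsAssociatedPrime.isPrime hp⟩ : PrimeSpectrum A) ∈
          Module.support A (M ⧸ (Ideal.ofList [x] • (⊤ : Submodule A M))) := by
        rw [Module.support_quotient]
        refine ⟨Module.mem_support_iff_of_finite.mpr
          (by simpa [Submodule.annihilator_top] using IsAssociatedPrime.annihilator_le hp), ?_⟩
        rw [PrimeSpectrum.mem_zeroLocus, Ideal.ofList_singleton, SetLike.coe_subset_coe,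
          Ideal.span_singleton_le_iff_mem]
        exact hxp
      have h3 := dim_quotient_le_supportDim _ _ hsupp
      rw [Module.supportDim_eq_of_equiv (Submodule.quotEquivOfEq _ _ (quotient_ofList_singleton x)),
        dim_quotient_eq hM hp, ← hd] at h3
      have h4 := h3.trans hq
      norm_cast at h4
      omega
    refine (isWeaklyRegular_cons_iff M x xs).2 ⟨hreg, ?_⟩
    refine isWeaklyRegular_of_dim xs (QuotSMulTop x M) (cm_quotSMulTop hM hx hreg) hxs' ?_
    have h5 := Module.supportDim_quotSMulTop_succ_eq_supportDim hreg hx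
    rw [← Module.supportDim_eq_of_equiv (Submodule.quotOfListConsSMulTopEquivQuotSMulTopInner M x xs), he]
    haveI : Nontrivial (QuotSMulTop x M) := nontrivial_of_cm (cm_quotSMulTop hM hx hreg)
    obtain ⟨d, hd'⟩ := QGorD.exists_nat_supportDim (R := A) (QuotSMulTop x M)
    rw [hd'] at h5 ⊢
    rw [← h5] at hd
    norm_cast at hd ⊢
    omega

/-- A regular sequence inside `p` cutting the dimension down to `dim A/p`. -/
theorem exists_regular_in_prime (p : PrimeSpectrum A) : ∀ (r : ℕ) (M : Type u) [AddCommGroup M]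
    [Module A M] [Module.Finite A M], LocCoh.IsCohenMacaulayModule A M → p ∈ Module.support A M →
    ringKrullDim (A ⧸ p.asIdeal) + r = Module.supportDim A M →
    ∃ xs : List A, xs.length = r ∧ (∀ x ∈ xs, x ∈ p.asIdeal) ∧ IsWeaklyRegular M xs
  | 0, M, _, _, _, _, _, _ => ⟨[], rfl, by simp, IsWeaklyRegular.nil _ _⟩
  | r + 1, M, _, _, _, hM, hp, hd => by
    haveI := nontrivial_of_cm hM
    have hpm : p.asIdeal ≤ maximalIdeal A := le_maximalIdeal p.isPrime.ne_top
    haveI : IsLocalRing (A ⧸ p.asIdeal) :=
      IsLocalRing.of_surjective' (Ideal.Quotient.mk p.asIdeal) Ideal.Quotient.mk_surjective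
    obtain ⟨e, he⟩ : ∃ e : ℕ, ringKrullDim (A ⧸ p.asIdeal) = e := by
      obtain ⟨e, he⟩ := QGorD.exists_nat_supportDim (R := A) (A ⧸ p.asIdeal)
      exact ⟨e, (Module.supportDim_quotient_eq_ringKrullDim _).symm.trans he⟩
    obtain ⟨d, hd'⟩ := QGorD.exists_nat_supportDim (R := A) M
    have hne : ∃ x ∈ p.asIdeal, IsSMulRegular M x := by
      by_contra hn
      push Not at hn
      have hsub : (p.asIdeal : Set A) ⊆ ⋃ q ∈ ((associatedPrimes.finite A M).toFinset : Set (Ideal A)),
          (q : Set A) := by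
        rw [Set.Finite.coe_toFinset, biUnion_associatedPrimes_eq_compl_regular]
        exact fun x hx => hn x hx
      obtain ⟨q, hq, hle⟩ := (Ideal.subset_union_prime (f := fun q : Ideal A => q) ⊤ ⊤
        (fun q hq _ _ => IsAssociatedPrime.isPrime ((Set.Finite.mem_toFinset _).mp hq))).mp hsub
      rw [Set.Finite.mem_toFinset] at hq
      have h1 : ringKrullDim (A ⧸ q) ≤ ringKrullDim (A ⧸ p.asIdeal) :=
        ringKrullDim_le_of_surjective (Ideal.Quotient.factor hle)
          (Ideal.Quotient.factor_surjective hle)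
      rw [dim_quotient_eq hM hq, ← hd, he] at h1
      norm_cast at h1
      omega
    obtain ⟨x, hx, hreg⟩ := hne
    have hp' : p ∈ Module.support A (QuotSMulTop x M) := by
      have : p ∈ Module.support A (M ⧸ (Ideal.ofList [x] • (⊤ : Submodule A M))) := by
        rw [Module.support_quotient]
        refine ⟨hp, ?_⟩
        rw [PrimeSpectrum.mem_zeroLocus, Ideal.ofList_singleton, SetLike.coe_subset_coe,
          Ideal.span_singleton_le_iff_mem]
        exact hx
      let e : (M ⧸ (Ideal.ofList [x] • (⊤ : Submodule A M))) ≃ₗ[A] QuotSMulTop x M :=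
        Submodule.quotEquivOfEq _ _ (quotient_ofList_singleton x)
      rwa [e.support_eq] at this
    have h5 := Module.supportDim_quotSMulTop_succ_eq_supportDim hreg (hpm hx)
    haveI := nontrivial_of_cm (cm_quotSMulTop hM (hpm hx) hreg)
    obtain ⟨d₁, hd₁⟩ := QGorD.exists_nat_supportDim (R := A) (QuotSMulTop x M)
    obtain ⟨xs, h1, h2, h3⟩ := exists_regular_in_prime p r (QuotSMulTop x M)
      (cm_quotSMulTop hM (hpm hx) hreg) hp' (by
        rw [he, hd₁]
        rw [he, ← h5, hd₁] at hd
        norm_cast at hd ⊢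
        omega)
    exact ⟨x :: xs, by simp [h1], by simpa [hx] using h2, (isWeaklyRegular_cons_iff M x xs).2 ⟨hreg, h3⟩⟩

/-- After cutting by such a sequence, the prime is the only associated prime below it. -/
theorem eq_of_dim_quotient_eq {p q : Ideal A} [p.IsPrime] [q.IsPrime] (hqp : q ≤ p)
    (h : ringKrullDim (A ⧸ q) = ringKrullDim (A ⧸ p)) : q = p := by
  by_contra hne
  obtain ⟨c, hcp, hcq⟩ := SetLike.exists_of_lt (lt_of_le_of_ne hqp hne)
  haveI : IsLocalRing (A ⧸ q) := IsLocalRing.of_surjective' (Ideal.Quotient.mk q) Ideal.Quotient.mk_surjective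
  have hc : Ideal.Quotient.mk q c ∈ nonZeroDivisors (A ⧸ q) :=
    mem_nonZeroDivisors_iff_ne_zero.mpr fun hh => hcq (Ideal.Quotient.eq_zero_iff_mem.mp hh)
  have h1 := ringKrullDim_quotient_succ_le_of_nonZeroDivisor hc
  have h2 : ringKrullDim (A ⧸ p) ≤ ringKrullDim ((A ⧸ q) ⧸ Ideal.span {Ideal.Quotient.mk q c}) := by
    refine ringKrullDim_le_of_surjective
      (Ideal.Quotient.lift _ (Ideal.Quotient.factor hqp) ?_) ?_
    · intro y hy
      obtain ⟨z, rfl⟩ := Ideal.mem_span_singleton.mp hy
      rw [map_mul, Ideal.Quotient.factor_mk, Ideal.Quotient.eq_zero_iff_mem.mpr hcp, zero_mul]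
    · exact Ideal.Quotient.lift_surjective_of_surjective _ _ (Ideal.Quotient.factor_surjective hqp)
  obtain ⟨e, he⟩ := QGorD.exists_nat_supportDim (R := A) (A ⧸ p)
  rw [Module.supportDim_quotient_eq_ringKrullDim] at he
  have h3 := (add_le_add h2 le_rfl).trans h1
  rw [h, he] at h3
  norm_cast at h3
  omega

end Groth.Agent.EGA41CM
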