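/-
Localization of Cohen–Macaulay modules at primes of the support.
-/
import Groth.Agent.EGA41CM.Basic
import Mathlib

universe u

open RingTheory.Sequence IsLocalRing Pointwise

namespace Groth.Agent.EGA41CM

variable {A : Type u} [CommRing A] [IsLocalRing A] [IsNoetherianRing A]
variable {M : Type u} [AddCommGroup M] [Module A M] [Module.Finite A M]

theorem supportDim_quotient_prime (p : PrimeSpectrum A) (hp : p ∈ Module.support A M) :
    Module.supportDim A (M ⧸ (p.asIdeal • (⊤ : Submodule A M))) = ringKrullDim (A ⧸ p.asIdeal) := by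
  refine le_antisymm ?_ (dim_quotient_le_supportDim _ p ?_)
  · rw [Module.supportDim_eq_ringKrullDim_quotient_annihilator]
    refine ringKrullDim_le_of_surjective (Ideal.Quotient.factor ?_) (Ideal.Quotient.factor_surjective _)
    intro a ha
    rw [Module.mem_annihilator]
    intro z
    obtain ⟨m, rfl⟩ := Submodule.Quotient.mk_surjective _ z
    rw [← Submodule.Quotient.mk_smul, Submodule.Quotient.mk_eq_zero]
    exact Submodule.smul_mem_smul ha Submodule.mem_top
  · rw [Module.support_quotient]
    exact ⟨hp, (PrimeSpectrum.mem_zeroLocus _ _).mpr subset_rfl⟩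

/-- A maximal regular sequence in `p`: the data behind localization. -/
theorem exists_cut (hM : LocCoh.IsCohenMacaulayModule A M) (p : PrimeSpectrum A)
    (hp : p ∈ Module.support A M) : ∃ r : ℕ, ∃ xs : List A, xs.length = r ∧ (∀ x ∈ xs, x ∈ p.asIdeal) ∧
      IsWeaklyRegular M xs ∧ ringKrullDim (A ⧸ p.asIdeal) + r = Module.supportDim A M := by
  haveI := nontrivial_of_cm hM
  obtain ⟨d, hd⟩ := QGorD.exists_nat_supportDim (R := A) M
  obtain ⟨e, he⟩ : ∃ e : ℕ, ringKrullDim (A ⧸ p.asIdeal) = e := by
    haveI : Nontrivial (A ⧸ p.asIdeal) := Ideal.Quotient.nontrivial_iff.mpr p.isPrime.ne_top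
    obtain ⟨e, he⟩ := QGorD.exists_nat_supportDim (R := A) (A ⧸ p.asIdeal)
    exact ⟨e, (Module.supportDim_quotient_eq_ringKrullDim _).symm.trans he⟩
  have hle := dim_quotient_le_supportDim M p hp
  rw [hd, he] at hle
  have hle' : e ≤ d := by exact_mod_cast hle
  have h : ringKrullDim (A ⧸ p.asIdeal) + ((d - e : ℕ) : WithBot ℕ∞) = Module.supportDim A M := by
    rw [hd, he, ← Nat.cast_add, Nat.add_sub_cancel' hle']
  obtain ⟨xs, h1, h2, h3⟩ := exists_regular_in_prime p (d - e) M hM hp h
  exact ⟨d - e, xs, h1, h2, h3, h⟩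

/-- After such a cut, `p` is the only prime of the support below `p`. -/
theorem eq_of_le_of_cut (hM : LocCoh.IsCohenMacaulayModule A M) (p : PrimeSpectrum A) {xs : List A}
    (hxs : ∀ x ∈ xs, x ∈ p.asIdeal) (hr : IsWeaklyRegular M xs)
    (hd : ringKrullDim (A ⧸ p.asIdeal) + xs.length = Module.supportDim A M)
    (q : PrimeSpectrum A) (hq : q ∈ Module.support A (M ⧸ (Ideal.ofList xs • (⊤ : Submodule A M))))
    (hqp : q.asIdeal ≤ p.asIdeal) : q = p := by
  haveI := nontrivial_of_cm hM
  have hxm : ∀ x ∈ xs, x ∈ maximalIdeal A := fun x hx => le_maximalIdeal p.isPrime.ne_top (hxs x hx)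
  have hN := cm_quotient hM hxm hr
  haveI := nontrivial_of_cm hN
  obtain ⟨q', hq', hle⟩ := Ideal.exists_minimalPrimes_le (Module.mem_support_iff_of_finite.mp hq)
  have hass := Module.associatedPrimes.minimalPrimes_annihilator_subset_associatedPrimes A _ hq'
  haveI := hq'.1.1
  have h1 := supportDim_quotient_of_regular hxm hr
  obtain ⟨n, hn⟩ := QGorD.exists_nat_supportDim (R := A) (M ⧸ (Ideal.ofList xs • (⊤ : Submodule A M)))
  haveI : Nontrivial (A ⧸ p.asIdeal) := Ideal.Quotient.nontrivial_iff.mpr p.isPrime.ne_top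
  obtain ⟨e, he⟩ := QGorD.exists_nat_supportDim (R := A) (A ⧸ p.asIdeal)
  rw [Module.supportDim_quotient_eq_ringKrullDim] at he
  have h2 : ringKrullDim (A ⧸ q') = ringKrullDim (A ⧸ p.asIdeal) := by
    rw [dim_quotient_eq hN hass, hn, he]
    rw [← hd, hn, he] at h1
    norm_cast at h1 ⊢
    omega
  have h3 := eq_of_dim_quotient_eq (hle.trans hqp) h2
  exact PrimeSpectrum.ext (le_antisymm hqp (h3.symm.le.trans hle))

theorem localized (hM : LocCoh.IsCohenMacaulayModule A M) (p : PrimeSpectrum A) {xs : List A} {r : ℕ}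
    (hlen : xs.length = r) (hxs : ∀ x ∈ xs, x ∈ p.asIdeal) (hr : IsWeaklyRegular M xs)
    (hd : ringKrullDim (A ⧸ p.asIdeal) + r = Module.supportDim A M) (hp : p ∈ Module.support A M) :
    Module.supportDim (Localization.AtPrime p.asIdeal) (LocalizedModule p.asIdeal.primeCompl M) = r ∧
      LocCoh.IsCohenMacaulayModule (Localization.AtPrime p.asIdeal)
        (LocalizedModule p.asIdeal.primeCompl M) := by
  haveI := Module.mem_support_iff.mp hp
  let f := LocalizedModule.mkLinearMap p.asIdeal.primeCompl M
  let Ap := Localization.AtPrime p.asIdeal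
  let N := LocalizedModule p.asIdeal.primeCompl M
  let ys := xs.map (algebraMap A Ap)
  have hys : ∀ y ∈ ys, y ∈ maximalIdeal Ap := fun y hy => by
    obtain ⟨x, hx, rfl⟩ := List.mem_map.mp hy
    exact (IsLocalization.AtPrime.to_map_mem_maximal_iff Ap p.asIdeal x).mpr (hxs x hx)
  have hreg : IsWeaklyRegular N ys := hr.of_isLocalizedModule Ap p.asIdeal.primeCompl f
  have hQ := nontrivial_quotient (A := Ap) (M := N) hys
  have hzero : Module.supportDim Ap (N ⧸ (Ideal.ofList ys • (⊤ : Submodule Ap N))) = 0 := by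
    have hall : ∀ P ∈ Module.support Ap (N ⧸ (Ideal.ofList ys • (⊤ : Submodule Ap N))),
        P.asIdeal = maximalIdeal Ap := by
      intro P hP
      rw [Module.support_quotient] at hP
      obtain ⟨hP1, hP2⟩ := hP
      let q : PrimeSpectrum A := ⟨P.asIdeal.comap (algebraMap A Ap), Ideal.comap_isPrime _ _⟩
      have hqp : q.asIdeal ≤ p.asIdeal := by
        intro a ha
        by_contra h
        exact P.isPrime.ne_top (Ideal.eq_top_of_isUnit_mem _ ha
          (IsLocalization.map_units Ap (⟨a, h⟩ : p.asIdeal.primeCompl)))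
      have hq : q ∈ Module.support A (M ⧸ (Ideal.ofList xs • (⊤ : Submodule A M))) := by
        rw [Module.support_quotient]
        refine ⟨Module.mem_support_iff_of_finite.mpr fun a ha => ?_, ?_⟩
        · refine Module.mem_support_iff_of_finite.mp hP1 ?_
          rw [Module.mem_annihilator]
          intro z
          obtain ⟨⟨m, s⟩, hz⟩ := IsLocalizedModule.surj p.asIdeal.primeCompl f z
          rw [algebraMap_smul]
          refine (IsUnit.smul_eq_zero (IsLocalization.map_units Ap s)).mp ?_
          rw [algebraMap_smul, smul_comm]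
          change a • (s • z) = 0
          rw [hz, ← map_smul, Module.mem_annihilator.mp ha, map_zero]
        · rw [PrimeSpectrum.mem_zeroLocus, SetLike.coe_subset_coe, Ideal.ofList, Ideal.span_le]
          intro x hx
          exact hP2 (Ideal.subset_span (List.mem_map.mpr ⟨x, hx, rfl⟩))
      have h := eq_of_le_of_cut hM p hxs hr (by rw [hlen]; exact hd) q hq hqp
      have h' : P.asIdeal.comap (algebraMap A Ap) = p.asIdeal := congrArg PrimeSpectrum.asIdeal h
      rw [← IsLocalization.AtPrime.map_eq_maximalIdeal p.asIdeal Ap,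
        ← IsLocalization.map_comap p.asIdeal.primeCompl Ap P.asIdeal]
      exact congrArg (Ideal.map (algebraMap A Ap)) h'
    refine le_antisymm ?_ ?_
    · rw [Module.supportDim]
      haveI : Subsingleton (Module.support Ap (N ⧸ (Ideal.ofList ys • (⊤ : Submodule Ap N)))) :=
        ⟨fun a b => Subtype.ext (PrimeSpectrum.ext ((hall a a.2).trans (hall b b.2).symm))⟩
      exact Order.krullDim_nonpos_of_subsingleton
    · haveI : Nonempty (Module.support Ap (N ⧸ (Ideal.ofList ys • (⊤ : Submodule Ap N)))) :=
        Module.nonempty_support_of_nontrivial.to_subtype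
      exact Order.krullDim_nonneg
  have hdim : Module.supportDim Ap N = r := by
    rw [← supportDim_quotient_of_regular hys hreg, hzero, zero_add, List.length_map, hlen]
  refine ⟨hdim, ?_⟩
  rw [LocCoh.IsCohenMacaulayModule, hdim]
  refine congrArg WithBot.some (le_antisymm ?_ (InvFin.depth_le_supportDim N hdim))
  rw [← hlen, ← List.length_map (algebraMap A Ap)]
  exact (LocH.le_idealDepth_iff _ _ _).2 (LocH.subsingleton_of_isWeaklyRegular _ ys _ hreg hys)

end Groth.Agent.EGA41CM
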